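import Groth.Agent.Lib.Helper2.K0Res.Basic
import Mathlib.Algebra.Homology.Augment
import Mathlib.Algebra.Homology.ShortComplex.HomologicalComplex

/-!
# Uniformly finite resolution dimension from the hypothesis on cycles of resolutions (helper2)

If for every resolution `L` of `A` by objects of `P₀` the cycles `Z_{d+1}(L)` are in `P₀`, then all
`(d+2)`-fold syzygies of `A` are in `P₀`.
-/

set_option autoImplicit false
universe v u

namespace Groth.Agent.Lib.Helper2.K0Res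

open CategoryTheory CategoryTheory.Limits

variable {C : Type u} [Category.{v} C] [Abelian C]

lemma comp_kernel_zero {X K Y Z W : C} (p : X ⟶ K) (i : K ⟶ Y) (q : Y ⟶ Z) (hi : i ≫ q = 0)
    (j : Z ⟶ W) : (p ≫ i) ≫ (q ≫ j) = 0 := by
  rw [Category.assoc, reassoc_of% hi, zero_comp, comp_zero]

lemma comp_kernel_zero' {X K Y Z : C} (p : X ⟶ K) (i : K ⟶ Y) (q : Y ⟶ Z) (hi : i ≫ q = 0) :
    (p ≫ i) ≫ q = 0 := by
  rw [Category.assoc, hi, comp_zero]

lemma exact_of_factor {X₁ K X₂ K' X₃ : C} (f' : X₁ ⟶ X₂) (g' : X₂ ⟶ X₃) (w' : f' ≫ g' = 0)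
    (p : X₁ ⟶ K) (i : K ⟶ X₂) (q : X₂ ⟶ K') (j : K' ⟶ X₃) (w : i ≫ q = 0) (hp : Epi p)
    (hj : Mono j) (hf : f' = p ≫ i) (hg : g' = q ≫ j) (h : (ShortComplex.mk i q w).Exact) :
    (ShortComplex.mk f' g' w').Exact := by
  subst hf hg
  let S₁ := ShortComplex.mk i q w
  let S₂ := ShortComplex.mk (p ≫ i) q (by rw [Category.assoc, w, comp_zero])
  let S₃ := ShortComplex.mk (p ≫ i) (q ≫ j) w'
  let φ₁ : S₂ ⟶ S₁ :=
    { τ₁ := p, τ₂ := 𝟙 _, τ₃ := 𝟙 _, comm₁₂ := by simp [S₁, S₂], comm₂₃ := by simp [S₁, S₂] }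
  let φ₂ : S₂ ⟶ S₃ :=
    { τ₁ := 𝟙 _, τ₂ := 𝟙 _, τ₃ := j, comm₁₂ := by simp [S₂, S₃], comm₂₃ := by simp [S₂, S₃] }
  haveI : Epi φ₁.τ₁ := hp
  haveI : IsIso φ₁.τ₂ := inferInstanceAs (IsIso (𝟙 X₂))
  haveI : Mono φ₁.τ₃ := inferInstanceAs (Mono (𝟙 K'))
  haveI : Epi φ₂.τ₁ := inferInstanceAs (Epi (𝟙 X₁))
  haveI : IsIso φ₂.τ₂ := inferInstanceAs (IsIso (𝟙 X₂))
  haveI : Mono φ₂.τ₃ := hj
  have h₂ : S₂.Exact := (ShortComplex.exact_iff_of_epi_of_isIso_of_mono φ₁).2 h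
  exact (ShortComplex.exact_iff_of_epi_of_isIso_of_mono φ₂).1 h₂

/-- `L` together with `ε : L₀ ⟶ A` is a resolution of `A` by objects of `P₀`. -/
structure IsRes (P₀ : ObjectProperty C) (L : ChainComplex C ℕ) (A : C) (ε : L.X 0 ⟶ A) : Prop where
  mem : ∀ i, P₀ (L.X i)
  exact_succ : ∀ n : ℕ, (L.sc' (n + 1 + 1) (n + 1) n).Exact
  w : L.d 1 0 ≫ ε = 0
  exact_zero : (ShortComplex.mk (L.d 1 0) ε w).Exact
  epi : Epi ε

variable {P₀ P₁ : ObjectProperty C}

lemma IsRes.exactAt {L : ChainComplex C ℕ} {A : C} {ε : L.X 0 ⟶ A} (h : IsRes P₀ L A ε) (i : ℕ)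
    (hi : 1 ≤ i) : L.ExactAt i := by
  obtain ⟨n, rfl⟩ : ∃ n, i = n + 1 := ⟨i - 1, by omega⟩
  exact (HomologicalComplex.exactAt_iff' L (n + 1 + 1) (n + 1) n (by simp) (by simp)).2
    (h.exact_succ n)

lemma IsRes.homologyIso {L : ChainComplex C ℕ} {A : C} {ε : L.X 0 ⟶ A} (h : IsRes P₀ L A ε) :
    Nonempty (L.homology 0 ≅ A) := by
  haveI := h.epi
  have hc : IsColimit (CokernelCofork.ofπ ε h.w) := h.exact_zero.gIsCokernel
  have hc' := L.opcyclesIsCokernel 1 0 (by simp)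
  have e1 : L.homology 0 ≅ L.opcycles 0 := L.isoHomologyι 0 0 (by simp) (L.shape _ _ (by simp))
  have e2 : L.opcycles 0 ≅ A := IsColimit.coconePointUniqueUpToIso hc' hc
  exact ⟨e1 ≪≫ e2⟩

lemma mem_kernel_of_cycles [P₀.IsClosedUnderIsomorphisms] (L : ChainComplex C ℕ) (n : ℕ)
    (h : P₀ (L.cycles (n + 1))) : P₀ (kernel (L.d (n + 1) n)) := by
  have e := IsLimit.conePointUniqueUpToIso (L.cyclesIsKernel (n + 1) n (by simp))
    (kernelIsKernel (L.d (n + 1) n))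
  exact P₀.prop_of_iso e h

/-- the syzygies of a resolution. -/
noncomputable def Zn (L : ChainComplex C ℕ) {A : C} (ε : L.X 0 ⟶ A) : ℕ → C
  | 0 => kernel ε
  | n + 1 => kernel (L.d (n + 1) n)

/-- all resolutions of `A` have `n`-th syzygy in `P₀`. -/
def Rn (P₀ : ObjectProperty C) (A : C) (n : ℕ) : Prop :=
  ∀ (L : ChainComplex C ℕ) (ε : L.X 0 ⟶ A), IsRes P₀ L A ε → P₀ (Zn L ε n)

/-! ### The canonical resolution -/

structure Stage (P₁ : ObjectProperty C) where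
  K : C
  hK : P₁ K

section Canon

variable (H : Hyp P₀ P₁)

noncomputable def cov (s : Stage P₁) : C := (H.pres s.K s.hK).choose

noncomputable def covπ (s : Stage P₁) : cov H s ⟶ s.K := (H.pres s.K s.hK).choose_spec.choose

lemma cov_mem (s : Stage P₁) : P₀ (cov H s) := (H.pres s.K s.hK).choose_spec.choose_spec.1

instance epi_covπ (s : Stage P₁) : Epi (covπ H s) := (H.pres s.K s.hK).choose_spec.choose_spec.2

noncomputable def next (s : Stage P₁) : Stage P₁ :=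
  ⟨kernel (covπ H s), ker_mem H (sesOfEpi (covπ H s)) (cov_mem H s) s.hK⟩

noncomputable def stage (s : Stage P₁) : ℕ → Stage P₁
  | 0 => s
  | n + 1 => next H (stage s n)

noncomputable def resX (s : Stage P₁) (n : ℕ) : C := cov H (stage H s n)

noncomputable def resd (s : Stage P₁) (n : ℕ) : resX H s (n + 1) ⟶ resX H s n :=
  covπ H (stage H s (n + 1)) ≫ kernel.ι (covπ H (stage H s n))

lemma resd_comp (s : Stage P₁) (n : ℕ) : resd H s (n + 1) ≫ resd H s n = 0 :=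
  comp_kernel_zero (covπ H (stage H s (n + 1 + 1))) (kernel.ι (covπ H (stage H s (n + 1))))
    (covπ H (stage H s (n + 1))) (kernel.condition _) (kernel.ι (covπ H (stage H s n)))

noncomputable def res (s : Stage P₁) : ChainComplex C ℕ :=
  ChainComplex.of (resX H s) (resd H s) (resd_comp H s)

lemma isRes_res (s : Stage P₁) : IsRes P₀ (res H s) s.K (covπ H s) := by
  have e0 : (res H s).d 1 0 = covπ H (stage H s 1) ≫ kernel.ι (covπ H s) :=
    ChainComplex.of_d (resX H s) (resd H s) 0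
  have w0 : (res H s).d 1 0 ≫ covπ H s = 0 := by
    rw [e0]
    exact comp_kernel_zero' (covπ H (stage H s 1)) (kernel.ι (covπ H s)) (covπ H s)
      (kernel.condition _)
  refine ⟨fun n => cov_mem H (stage H s n), fun n => ?_, w0, ?_, epi_covπ H s⟩
  · have e1 : (res H s).d (n + 1 + 1) (n + 1) =
        covπ H (stage H s (n + 1 + 1)) ≫ kernel.ι (covπ H (stage H s (n + 1))) :=
      ChainComplex.of_d (resX H s) (resd H s) (n + 1)
    have e2 : (res H s).d (n + 1) n =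
        covπ H (stage H s (n + 1)) ≫ kernel.ι (covπ H (stage H s n)) :=
      ChainComplex.of_d (resX H s) (resd H s) n
    exact exact_of_factor _ _ _ (covπ H (stage H s (n + 1 + 1)))
      (kernel.ι (covπ H (stage H s (n + 1)))) (covπ H (stage H s (n + 1)))
      (kernel.ι (covπ H (stage H s n))) (kernel.condition _)
      (epi_covπ H (stage H s (n + 1 + 1)))
      (show Mono (kernel.ι (covπ H (stage H s n))) from inferInstance) e1 e2
      (ShortComplex.exact_of_f_is_kernel _ (kernelIsKernel _))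
  · exact exact_of_factor _ _ _ (covπ H (stage H s 1)) (kernel.ι (covπ H s)) (covπ H s) (𝟙 _)
      (kernel.condition _) (epi_covπ H (stage H s 1)) inferInstance e0 (Category.comp_id _).symm
      (ShortComplex.exact_of_f_is_kernel _ (kernelIsKernel _))

end Canon

/-! ### Augmenting a resolution of a syzygy -/

lemma isRes_augment {M : ChainComplex C ℕ} {K : C} {ε : M.X 0 ⟶ K} (hM : IsRes P₀ M K ε)
    {L₀ A : C} (i : K ⟶ L₀) (π : L₀ ⟶ A) (w : i ≫ π = 0)
    (hS : (ShortComplex.mk i π w).ShortExact) (hL₀ : P₀ L₀)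
    (wM : M.d 1 0 ≫ ε ≫ i = 0) :
    IsRes P₀ (ChainComplex.augment M (ε ≫ i) wM) A π := by
  have hi : Mono i := hS.mono_f
  have hε : Epi ε := hM.epi
  have w0 : (ChainComplex.augment M (ε ≫ i) wM).d 1 0 ≫ π = 0 := by
    change (ε ≫ i) ≫ π = 0
    rw [Category.assoc, w, comp_zero]
  refine ⟨fun j => ?_, fun n => ?_, w0, ?_, hS.epi_g⟩
  · cases j with
    | zero => exact hL₀
    | succ j => exact hM.mem j
  · cases n with
    | zero =>
      exact exact_of_factor _ _ _ (𝟙 _) (M.d 1 0) ε i hM.w inferInstance hi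
        (Category.id_comp _).symm rfl hM.exact_zero
    | succ m => exact hM.exact_succ m
  · exact exact_of_factor _ _ _ ε i π (𝟙 _) w hε inferInstance rfl (Category.comp_id _).symm
      hS.exact

lemma Zn_augment_mem [P₀.IsClosedUnderIsomorphisms] {M : ChainComplex C ℕ} {K : C}
    {ε : M.X 0 ⟶ K} {L₀ A : C} (i : K ⟶ L₀) [Mono i] (π : L₀ ⟶ A)
    (wM : M.d 1 0 ≫ ε ≫ i = 0) (n : ℕ)
    (h : P₀ (Zn (ChainComplex.augment M (ε ≫ i) wM) π (n + 1))) : P₀ (Zn M ε n) := by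
  cases n with
  | zero => exact P₀.prop_of_iso (kernelCompMono ε i) h
  | succ m => exact h

/-! ### The induction -/

lemma T_of_Rn (H : Hyp P₀ P₁) [P₀.IsClosedUnderIsomorphisms] :
    ∀ (n : ℕ) (A : C), P₁ A → Rn P₀ A n → T P₀ (n + 1) A
  | 0, A, hA, hR => by
    intro K L₀ i π w hS hL₀
    have hK : P₁ K := ker_mem H hS hL₀ hA
    have hN := isRes_res H (⟨K, hK⟩ : Stage P₁)
    have wM : (res H (⟨K, hK⟩ : Stage P₁)).d 1 0 ≫ covπ H (⟨K, hK⟩ : Stage P₁) ≫ i = 0 := by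
      rw [← Category.assoc, hN.w, zero_comp]
    have hL' := isRes_augment hN i π w hS hL₀ wM
    have hker : P₀ (kernel π) := hR _ _ hL'
    exact P₀.prop_of_iso (kerIso hS).symm hker
  | n + 1, A, hA, hR => by
    intro K L₀ i π w hS hL₀
    have hK : P₁ K := ker_mem H hS hL₀ hA
    apply T_of_Rn H n K hK
    intro M ε hM
    haveI := hS.mono_f
    have wM : M.d 1 0 ≫ ε ≫ i = 0 := by rw [← Category.assoc, hM.w, zero_comp]
    exact Zn_augment_mem i π wM n (hR _ _ (isRes_augment hM i π w hS hL₀ wM))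

theorem exists_T (H : Hyp P₀ P₁) [P₀.IsClosedUnderIsomorphisms]
    (h3 : ∀ A : C, P₁ A → ∃ d : ℕ, ∀ L : ChainComplex C ℕ, (∀ i, P₀ (L.X i)) →
      (∀ i, 1 ≤ i → L.ExactAt i) → Nonempty (L.homology 0 ≅ A) → P₀ (L.cycles (d + 1))) :
    ∀ A : C, P₁ A → ∃ n : ℕ, T P₀ n A := by
  intro A hA
  obtain ⟨d, hd⟩ := h3 A hA
  refine ⟨d + 1 + 1, T_of_Rn H (d + 1) A hA ?_⟩
  intro L ε hL
  exact mem_kernel_of_cycles L d (hd L hL.mem hL.exactAt hL.homologyIso)

end Groth.Agent.Lib.Helper2.K0Res
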