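import Groth.Prelude.Def_SGA6
import Mathlib.CategoryTheory.Abelian.DiagramLemmas.KernelCokernelComp
import Mathlib.CategoryTheory.ObjectProperty.ClosedUnderIsomorphisms

/-!
# The resolution theorem for `K₀` (helper2)

`P₀ ≤ P₁` classes of objects of an abelian category, closed under kernels of epimorphisms, every
object of `P₁` being a quotient of an object of `P₀`, and every object of `P₁` having *uniformly*
finite `P₀`-resolution dimension (`T n A`).  Then `K₀(P₀) ⟶ K₀(P₁)` is bijective.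

`T n A`: every chain of `n` successive syzygies of `A` (through objects of `P₀`) ends in `P₀`.
`E n A x`: `x ∈ K₀(P₀)` is the Euler characteristic of `A` computed through such a chain.
-/

set_option autoImplicit false
universe v u

namespace Groth.Agent.Lib.Helper2.K0Res

open CategoryTheory CategoryTheory.Limits ZeroObject

variable {C : Type u} [Category.{v} C] [Abelian C]

/-! ### Short exact sequences -/

lemma sesOfEpi {L A : C} (π : L ⟶ A) [Epi π] :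
    (ShortComplex.mk (kernel.ι π) π (kernel.condition π)).ShortExact where
  exact := ShortComplex.exact_of_f_is_kernel _ (kernelIsKernel π)
  mono_f := inferInstanceAs (Mono (kernel.ι π))
  epi_g := ‹Epi π›

/-- the first term of a short exact sequence is the kernel of the second map. -/
noncomputable def kerIso {S : ShortComplex C} (hS : S.ShortExact) : S.X₁ ≅ kernel S.g := by
  haveI := hS.mono_f
  have e := IsLimit.conePointUniqueUpToIso hS.exact.fIsKernel (kernelIsKernel S.g)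
  exact e

lemma ses_postcomp_iso {K L A B : C} {i : K ⟶ L} {π : L ⟶ A} {w : i ≫ π = 0}
    (hS : (ShortComplex.mk i π w).ShortExact) (e : A ≅ B) :
    (ShortComplex.mk i (π ≫ e.hom) (by rw [← Category.assoc, w, zero_comp])).ShortExact :=
  ShortComplex.shortExact_of_iso
    (ShortComplex.isoMk (S₁ := ShortComplex.mk i π w) (Iso.refl _) (Iso.refl _) e (by simp)
      (by simp)) hS

lemma ses_of_iso {A B : C} (e : A ≅ B) :
    (ShortComplex.mk (0 : (0 : C) ⟶ A) e.hom zero_comp).ShortExact where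
  exact := (ShortComplex.exact_iff_mono _ rfl).2 (inferInstanceAs (Mono e.hom))
  mono_f := inferInstanceAs (Mono (0 : (0 : C) ⟶ A))
  epi_g := inferInstanceAs (Epi e.hom)

/-- `0 ⟶ ker f ⟶ ker (f ≫ g) ⟶ ker g ⟶ 0` for `f` an epimorphism. -/
lemma comp_ses {X Y Z : C} (f : X ⟶ Y) (g : Y ⟶ Z) [Epi f] :
    (kernelCokernelCompSequence.snakeInput f g).L₀.ShortExact := by
  let SI := kernelCokernelCompSequence.snakeInput f g
  haveI : Mono SI.L₁.f := show Mono (biprod.inl : X ⟶ X ⊞ Y) from inferInstance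
  haveI : Mono SI.L₀.f := inferInstance
  have hδ : SI.δ = 0 := (isZero_cokernel_of_epi f).eq_of_tgt _ _
  haveI : Epi SI.L₀.g := SI.L₁'_exact.epi_f hδ
  exact { exact := SI.L₀_exact }

/-! ### Hypotheses -/

structure Hyp (P₀ P₁ : ObjectProperty C) : Prop where
  hle : ∀ X, P₀ X → P₁ X
  hext₁ : ∀ S : ShortComplex C, S.ShortExact → P₁ S.X₁ → P₁ S.X₃ → P₁ S.X₂
  h1₀ : ∀ S : ShortComplex C, S.ShortExact → P₀ S.X₂ → P₀ S.X₃ → P₀ S.X₁
  h1₁ : ∀ S : ShortComplex C, S.ShortExact → P₁ S.X₂ → P₁ S.X₃ → P₁ S.X₁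
  pres : ∀ A : C, P₁ A → ∃ (L : C) (π : L ⟶ A), P₀ L ∧ Epi π

/-! ### Classes in `K₀` -/

section Cl

variable (P : ObjectProperty C)

/-- the class of an object in `K₀(P)`. -/
def cl (A : C) (h : P A) : KZero.K0sub P := QuotientAddGroup.mk (FreeAbelianGroup.of ⟨A, h⟩)

lemma cl_add (S : ShortComplex C) (hS : S.ShortExact) (h₁ : P S.X₁) (h₂ : P S.X₂) (h₃ : P S.X₃) :
    cl P S.X₂ h₂ = cl P S.X₁ h₁ + cl P S.X₃ h₃ := by
  have hmem : FreeAbelianGroup.of (⟨S.X₂, h₂⟩ : Subtype P) - FreeAbelianGroup.of ⟨S.X₁, h₁⟩ -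
      FreeAbelianGroup.of ⟨S.X₃, h₃⟩ ∈ KZero.relSub P :=
    AddSubgroup.subset_closure ⟨S, h₁, h₂, h₃, hS, rfl⟩
  have h0 := (QuotientAddGroup.eq_zero_iff _).2 hmem
  rw [QuotientAddGroup.mk_sub, QuotientAddGroup.mk_sub, sub_sub, sub_eq_zero] at h0
  exact h0

lemma cl_zero (h0 : P (0 : C)) : cl P 0 h0 = 0 := by
  have := cl_add P _ (ses_of_iso (Iso.refl (0 : C))) h0 h0 h0
  simpa using this

lemma cl_iso {A B : C} (e : A ≅ B) (hA : P A) (hB : P B) (h0 : P (0 : C)) :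
    cl P A hA = cl P B hB := by
  have := cl_add P _ (ses_of_iso e) h0 hA hB
  rw [this, cl_zero P h0, zero_add]

end Cl

/-! ### Uniform resolution dimension and Euler characteristics -/

section TE

variable (P₀ : ObjectProperty C)

/-- `T n A`: all `n`-fold syzygies of `A` are in `P₀`. -/
def T : ℕ → C → Prop
  | 0, A => P₀ A
  | n + 1, A => ∀ (K L : C) (i : K ⟶ L) (π : L ⟶ A) (w : i ≫ π = 0),
      (ShortComplex.mk i π w).ShortExact → P₀ L → T n K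

/-- `E n A x`: `x` is an Euler characteristic of `A` through an `n`-step chain. -/
def E : ℕ → C → KZero.K0sub P₀ → Prop
  | 0, A, x => ∃ h : P₀ A, x = cl P₀ A h
  | n + 1, A, x => ∃ (K L : C) (i : K ⟶ L) (π : L ⟶ A) (w : i ≫ π = 0)
      (_ : (ShortComplex.mk i π w).ShortExact) (hL : P₀ L) (y : KZero.K0sub P₀),
      E n K y ∧ x = cl P₀ L hL - y

end TE

variable {P₀ P₁ : ObjectProperty C}

lemma mem_zero (H : Hyp P₀ P₁) {A : C} (hA : P₀ A) : P₀ (0 : C) :=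
  H.h1₀ _ (ses_of_iso (Iso.refl A)) hA hA

lemma ker_mem (H : Hyp P₀ P₁) {K L A : C} {i : K ⟶ L} {π : L ⟶ A} {w : i ≫ π = 0}
    (hS : (ShortComplex.mk i π w).ShortExact) (hL : P₀ L) (hA : P₁ A) : P₁ K :=
  H.h1₁ _ hS (H.hle _ hL) hA

section Iso

variable [P₀.IsClosedUnderIsomorphisms]

lemma T_of_iso {n : ℕ} {A B : C} (e : A ≅ B) (h : T P₀ n A) : T P₀ n B := by
  cases n with
  | zero => exact P₀.prop_of_iso e h
  | succ n =>
    intro K L i π w hS hL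
    exact h K L i (π ≫ e.inv) _ (ses_postcomp_iso hS e.symm) hL

lemma E_of_iso (H : Hyp P₀ P₁) {n : ℕ} {A B : C} (e : A ≅ B) {x : KZero.K0sub P₀}
    (h : E P₀ n A x) : E P₀ n B x := by
  cases n with
  | zero =>
    obtain ⟨hA, rfl⟩ := h
    exact ⟨P₀.prop_of_iso e hA, cl_iso P₀ e hA _ (mem_zero H hA)⟩
  | succ n =>
    obtain ⟨K, L, i, π, w, hS, hL, y, hy, rfl⟩ := h
    exact ⟨K, L, i, π ≫ e.hom, _, ses_postcomp_iso hS e, hL, y, hy, rfl⟩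

end Iso

lemma T_succ (H : Hyp P₀ P₁) : ∀ (n : ℕ) (A : C), T P₀ n A → T P₀ (n + 1) A
  | 0, _, h => fun _ _ _ _ _ hS hL => H.h1₀ _ hS hL h
  | n + 1, _, h => fun K L i π w hS hL => T_succ H n K (h K L i π w hS hL)

lemma T_mono (H : Hyp P₀ P₁) {n m : ℕ} (hnm : n ≤ m) {A : C} (h : T P₀ n A) : T P₀ m A := by
  induction hnm with
  | refl => exact h
  | step _ ih => exact T_succ H _ _ ih

lemma exists_E (H : Hyp P₀ P₁) : ∀ (n : ℕ) (A : C), P₁ A → T P₀ n A → ∃ x, E P₀ n A x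
  | 0, _, _, h => ⟨_, h, rfl⟩
  | n + 1, A, hA, h => by
    obtain ⟨L, π, hL, hπ⟩ := H.pres A hA
    have hS := sesOfEpi π
    obtain ⟨y, hy⟩ := exists_E H n _ (ker_mem H hS hL hA) (h _ _ _ _ _ hS hL)
    exact ⟨_, _, _, _, _, _, hS, hL, y, hy, rfl⟩

lemma E_succ (H : Hyp P₀ P₁) : ∀ (n : ℕ) (A : C) (x : KZero.K0sub P₀), P₁ A → T P₀ n A →
    E P₀ n A x → E P₀ (n + 1) A x
  | 0, A, x, hA, _, h => by
    obtain ⟨hA0, rfl⟩ := h
    obtain ⟨L, π, hL, hπ⟩ := H.pres A hA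
    have hS := sesOfEpi π
    have hK0 : P₀ (kernel π) := H.h1₀ _ hS hL hA0
    refine ⟨_, _, _, _, _, hS, hL, cl P₀ _ hK0, ⟨hK0, rfl⟩, ?_⟩
    rw [cl_add P₀ _ hS hK0 hL hA0]
    abel
  | n + 1, A, x, hA, hT, h => by
    obtain ⟨K, L, i, π, w, hS, hL, y, hy, rfl⟩ := h
    exact ⟨K, L, i, π, w, hS, hL, y,
      E_succ H n K y (ker_mem H hS hL hA) (hT K L i π w hS hL) hy, rfl⟩

lemma E_mono (H : Hyp P₀ P₁) {n m : ℕ} (hnm : n ≤ m) {A : C} {x : KZero.K0sub P₀} (hA : P₁ A)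
    (hT : T P₀ n A) (h : E P₀ n A x) : E P₀ m A x := by
  induction hnm with
  | refl => exact h
  | step hk ih => exact E_succ H _ _ _ hA (T_mono H hk hT) ih

/-- the image in `K₀(P₁)` of an Euler characteristic of `A` is the class of `A`. -/
lemma map_E (H : Hyp P₀ P₁) : ∀ (n : ℕ) (A : C) (x : KZero.K0sub P₀) (hA : P₁ A), E P₀ n A x →
    SGA6.mapSub (𝟭 C) P₀ P₁ H.hle x = cl P₁ A hA
  | 0, A, x, hA, h => by
    obtain ⟨hA0, rfl⟩ := h
    change QuotientAddGroup.mk (FreeAbelianGroup.map _ (FreeAbelianGroup.of _)) = _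
    rw [FreeAbelianGroup.map_of_apply]
    rfl
  | n + 1, A, x, hA, h => by
    obtain ⟨K, L, i, π, w, hS, hL, y, hy, rfl⟩ := h
    have hK := ker_mem H hS hL hA
    rw [map_sub, map_E H n K y hK hy, map_E H 0 L _ (H.hle _ hL) ⟨hL, rfl⟩,
      cl_add P₁ _ hS hK (H.hle _ hL) hA]
    abel

/-! ### Uniqueness and additivity -/

section Main

variable (P₀ P₁)

def U (n : ℕ) : Prop :=
  ∀ A : C, P₁ A → T P₀ n A → ∀ x x' : KZero.K0sub P₀, E P₀ n A x → E P₀ n A x' → x = x'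

def Aadd (n : ℕ) : Prop :=
  ∀ S : ShortComplex C, S.ShortExact → P₁ S.X₁ → P₁ S.X₂ → P₁ S.X₃ →
    T P₀ n S.X₁ → T P₀ n S.X₂ → T P₀ n S.X₃ →
    ∀ x₁ x₂ x₃ : KZero.K0sub P₀, E P₀ n S.X₁ x₁ → E P₀ n S.X₂ x₂ → E P₀ n S.X₃ x₃ → x₂ = x₁ + x₃

end Main

variable [P₀.IsClosedUnderIsomorphisms] [P₁.IsClosedUnderIsomorphisms]

lemma U_zero : U P₀ P₁ 0 := by
  intro A _ _ x x' hx hx'
  obtain ⟨_, rfl⟩ := hx
  obtain ⟨_, rfl⟩ := hx'
  rfl

lemma Aadd_zero : Aadd P₀ P₁ 0 := by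
  intro S hS _ _ _ _ _ _ x₁ x₂ x₃ h₁ h₂ h₃
  obtain ⟨a₁, rfl⟩ := h₁
  obtain ⟨a₂, rfl⟩ := h₂
  obtain ⟨a₃, rfl⟩ := h₃
  exact cl_add P₀ S hS a₁ a₂ a₃

/-- refining a presentation does not change the Euler characteristic. -/
lemma refine_eq (H : Hyp P₀ P₁) (n : ℕ) (hAdd : Aadd P₀ P₁ n) {A K L : C} (hA : P₁ A)
    (hT : T P₀ (n + 1) A) (i : K ⟶ L) (π : L ⟶ A) (w : i ≫ π = 0)
    (hS : (ShortComplex.mk i π w).ShortExact) (hL : P₀ L) (y : KZero.K0sub P₀) (hy : E P₀ n K y)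
    {L'' : C} (a : L'' ⟶ L) [Epi a] (hL'' : P₀ L'') (π'' : L'' ⟶ A) (hπ'' : π'' = a ≫ π)
    (y'' : KZero.K0sub P₀) (hy'' : E P₀ n (kernel π'') y'') :
    cl P₀ L hL - y = cl P₀ L'' hL'' - y'' := by
  subst hπ''
  haveI : Epi π := hS.epi_g
  haveI : Epi (a ≫ π) := epi_comp _ _
  have hL₀ := comp_ses a π
  have hN : P₀ (kernel a) := H.h1₀ _ (sesOfEpi a) hL'' hL
  have hKπ : E P₀ n (kernel π) y := E_of_iso H (kerIso hS) hy
  have t2 : T P₀ n (kernel (a ≫ π)) := hT _ _ _ _ _ (sesOfEpi (a ≫ π)) hL''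
  have t3 : T P₀ n (kernel π) := hT _ _ _ _ _ (sesOfEpi π) hL
  have t1 : T P₀ n (kernel a) := T_mono H (Nat.zero_le n) (show T P₀ 0 (kernel a) from hN)
  have p1 : P₁ (kernel a) := H.hle _ hN
  have p2 : P₁ (kernel (a ≫ π)) := ker_mem H (sesOfEpi (a ≫ π)) hL'' hA
  have p3 : P₁ (kernel π) := ker_mem H (sesOfEpi π) hL hA
  have e1 : E P₀ n (kernel a) (cl P₀ _ hN) :=
    E_mono H (Nat.zero_le n) p1 (show T P₀ 0 (kernel a) from hN) ⟨hN, rfl⟩
  have key := hAdd _ hL₀ p1 p2 p3 t1 t2 t3 _ _ _ e1 hy'' hKπ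
  have hcl := cl_add P₀ _ (sesOfEpi a) hN hL'' hL
  rw [key, hcl]
  abel

lemma U_succ (H : Hyp P₀ P₁) (n : ℕ) (hAdd : Aadd P₀ P₁ n) : U P₀ P₁ (n + 1) := by
  intro A hA hT x x' hx hx'
  obtain ⟨K, L, i, π, w, hS, hL, y, hy, rfl⟩ := hx
  obtain ⟨K', L', i', π', w', hS', hL', y', hy', rfl⟩ := hx'
  haveI : Epi π := hS.epi_g
  haveI : Epi π' := hS'.epi_g
  -- the fibre product is in `P₁`
  have hQ : P₁ (pullback π π') := by
    have hbi : P₁ (L ⊞ L') :=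
      H.hext₁ _ (ShortComplex.Splitting.ofHasBinaryBiproduct L L').shortExact
        (H.hle _ hL) (H.hle _ hL')
    haveI : Epi (biprod.desc π (-π')) := epi_of_epi_fac (biprod.inl_desc π (-π'))
    have hS₀ : (ShortComplex.mk (Abelian.PullbackToBiproductIsKernel.pullbackToBiproduct π π')
        (biprod.desc π (-π')) (by simp [Abelian.PullbackToBiproductIsKernel.pullbackToBiproduct,
          pullback.condition])).ShortExact :=
      { exact := ShortComplex.exact_of_f_is_kernel _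
          (Abelian.PullbackToBiproductIsKernel.isLimitPullbackToBiproduct π π')
        mono_f := mono_of_isLimit_fork
          (Abelian.PullbackToBiproductIsKernel.isLimitPullbackToBiproduct π π')
        epi_g := ‹_› }
    exact H.h1₁ _ hS₀ hbi hA
  obtain ⟨L'', ρ, hL'', hρ⟩ := H.pres _ hQ
  haveI := hρ
  haveI : Epi (ρ ≫ pullback.fst π π') := epi_comp _ _
  haveI : Epi (ρ ≫ pullback.snd π π') := epi_comp _ _
  haveI : Epi ((ρ ≫ pullback.fst π π') ≫ π) := epi_comp _ _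
  have hK'' : P₁ (kernel ((ρ ≫ pullback.fst π π') ≫ π)) :=
    ker_mem H (sesOfEpi ((ρ ≫ pullback.fst π π') ≫ π)) hL'' hA
  obtain ⟨y'', hy''⟩ := exists_E H n _ hK''
    (hT _ _ _ _ _ (sesOfEpi ((ρ ≫ pullback.fst π π') ≫ π)) hL'')
  have e1 := refine_eq H n hAdd hA hT i π w hS hL y hy (ρ ≫ pullback.fst π π') hL''
    ((ρ ≫ pullback.fst π π') ≫ π) rfl y'' hy''
  have e2 := refine_eq H n hAdd hA hT i' π' w' hS' hL' y' hy' (ρ ≫ pullback.snd π π') hL''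
    ((ρ ≫ pullback.fst π π') ≫ π) (by simp only [Category.assoc, pullback.condition]) y'' hy''
  exact e1.trans e2.symm

lemma Aadd_succ (H : Hyp P₀ P₁) (n : ℕ) (hAdd : Aadd P₀ P₁ n) (hU' : U P₀ P₁ (n + 1)) :
    Aadd P₀ P₁ (n + 1) := by
  intro S hS h1 h2 h3 t1 t2 t3 x₁ x₂ x₃ e1 e2 e3
  haveI := hS.epi_g
  haveI := hS.mono_f
  -- a presentation of the middle term
  obtain ⟨L, π, hL, hπ⟩ := H.pres _ h2
  haveI := hπ
  haveI : Epi (π ≫ S.g) := epi_comp _ _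
  have hK : P₁ (kernel π) := ker_mem H (sesOfEpi π) hL h2
  have hK'' : P₁ (kernel (π ≫ S.g)) := ker_mem H (sesOfEpi (π ≫ S.g)) hL h3
  have tK : T P₀ n (kernel π) := t2 _ _ _ _ _ (sesOfEpi π) hL
  have tK'' : T P₀ n (kernel (π ≫ S.g)) := t3 _ _ _ _ _ (sesOfEpi (π ≫ S.g)) hL
  obtain ⟨y, hy⟩ := exists_E H n _ hK tK
  obtain ⟨y'', hy''⟩ := exists_E H n _ hK'' tK''
  have hx₂ : x₂ = cl P₀ L hL - y :=
    hU' _ h2 t2 _ _ e2 ⟨_, _, _, _, _, sesOfEpi π, hL, y, hy, rfl⟩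
  have hx₃ : x₃ = cl P₀ L hL - y'' :=
    hU' _ h3 t3 _ _ e3 ⟨_, _, _, _, _, sesOfEpi (π ≫ S.g), hL, y'', hy'', rfl⟩
  -- `0 ⟶ ker π ⟶ ker (π ≫ g) ⟶ ker g ⟶ 0`
  have hL₀ := comp_ses π S.g
  let t : kernel (π ≫ S.g) ⟶ kernel S.g := (kernelCokernelCompSequence.snakeInput π S.g).L₀.g
  haveI : Epi t := hL₀.epi_g
  let eA : S.X₁ ≅ kernel S.g := kerIso hS
  have h1' : P₁ (kernel S.g) := P₁.prop_of_iso eA h1
  have t1' : T P₀ (n + 1) (kernel S.g) := T_of_iso eA t1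
  have e1' : E P₀ (n + 1) (kernel S.g) x₁ := E_of_iso H eA e1
  -- a presentation of `ker (π ≫ g)`
  obtain ⟨M, ρ, hM, hρ⟩ := H.pres _ hK''
  haveI := hρ
  haveI : Epi (ρ ≫ t) := epi_comp _ _
  have tK''s : T P₀ (n + 1) (kernel (π ≫ S.g)) := T_succ H n _ tK''
  have hΩ : P₁ (kernel ρ) := ker_mem H (sesOfEpi ρ) hM hK''
  have tΩ : T P₀ n (kernel ρ) := tK''s _ _ _ _ _ (sesOfEpi ρ) hM
  have hJ : P₁ (kernel (ρ ≫ t)) := ker_mem H (sesOfEpi (ρ ≫ t)) hM h1'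
  have tJ : T P₀ n (kernel (ρ ≫ t)) := t1' _ _ _ _ _ (sesOfEpi (ρ ≫ t)) hM
  obtain ⟨ω, hω⟩ := exists_E H n _ hΩ tΩ
  obtain ⟨j, hj⟩ := exists_E H n _ hJ tJ
  have hx₁ : x₁ = cl P₀ M hM - j :=
    hU' _ h1' t1' _ _ e1' ⟨_, _, _, _, _, sesOfEpi (ρ ≫ t), hM, j, hj, rfl⟩
  have hy''2 : y'' = cl P₀ M hM - ω :=
    hU' _ hK'' tK''s _ _ (E_succ H n _ _ hK'' tK'' hy'')
      ⟨_, _, _, _, _, sesOfEpi ρ, hM, ω, hω, rfl⟩
  -- `0 ⟶ ker ρ ⟶ ker (ρ ≫ t) ⟶ ker t ⟶ 0` and `ker t ≅ ker π`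
  have hL₀' := comp_ses ρ t
  let eK : kernel π ≅ kernel t := kerIso hL₀
  have hadd := hAdd _ hL₀' hΩ hJ (P₁.prop_of_iso eK hK) tΩ tJ (T_of_iso eK tK) ω j y hω hj
    (E_of_iso H eK hy)
  rw [hx₂, hx₃, hx₁, hy''2, hadd]
  abel

theorem main (H : Hyp P₀ P₁) : ∀ n : ℕ, U P₀ P₁ n ∧ Aadd P₀ P₁ n
  | 0 => ⟨U_zero, Aadd_zero⟩
  | n + 1 =>
    have h := main H n
    have hU := U_succ H n h.2
    ⟨hU, Aadd_succ H n h.2 hU⟩

/-! ### The theorem -/

section Final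

variable (H : Hyp P₀ P₁) (hfin : ∀ A : C, P₁ A → ∃ n : ℕ, T P₀ n A)

include H hfin

lemma exists_chi (A : C) (hA : P₁ A) : ∃ x : KZero.K0sub P₀, ∃ n : ℕ, T P₀ n A ∧ E P₀ n A x := by
  obtain ⟨n, hn⟩ := hfin A hA
  obtain ⟨x, hx⟩ := exists_E H n A hA hn
  exact ⟨x, n, hn, hx⟩

/-- the Euler characteristic. -/
noncomputable def chi (A : Subtype P₁) : KZero.K0sub P₀ := (exists_chi H hfin A.1 A.2).choose

lemma chi_eq {A : C} (hA : P₁ A) {m : ℕ} (hT : T P₀ m A) {x : KZero.K0sub P₀}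
    (hx : E P₀ m A x) : chi H hfin ⟨A, hA⟩ = x := by
  obtain ⟨n, hn, hE⟩ := (exists_chi H hfin A hA).choose_spec
  have hTmax : T P₀ (max n m) A := T_mono H (le_max_left n m) hn
  exact (main H (max n m)).1 A hA hTmax _ _ (E_mono H (le_max_left n m) hA hn hE)
    (E_mono H (le_max_right n m) hA hT hx)

lemma chi_spec (A : C) (hA : P₁ A) : ∃ n : ℕ, T P₀ n A ∧ E P₀ n A (chi H hfin ⟨A, hA⟩) :=
  (exists_chi H hfin A hA).choose_spec

lemma chi_add (S : ShortComplex C) (hS : S.ShortExact) (h₁ : P₁ S.X₁) (h₂ : P₁ S.X₂)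
    (h₃ : P₁ S.X₃) :
    chi H hfin ⟨S.X₂, h₂⟩ = chi H hfin ⟨S.X₁, h₁⟩ + chi H hfin ⟨S.X₃, h₃⟩ := by
  obtain ⟨n₁, t₁, e₁⟩ := chi_spec H hfin S.X₁ h₁
  obtain ⟨n₂, t₂, e₂⟩ := chi_spec H hfin S.X₂ h₂
  obtain ⟨n₃, t₃, e₃⟩ := chi_spec H hfin S.X₃ h₃
  let m := max n₁ (max n₂ n₃)
  have l₁ : n₁ ≤ m := le_max_left _ _
  have l₂ : n₂ ≤ m := (le_max_left _ _).trans (le_max_right _ _)
  have l₃ : n₃ ≤ m := (le_max_right _ _).trans (le_max_right _ _)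
  exact (main H m).2 S hS h₁ h₂ h₃ (T_mono H l₁ t₁) (T_mono H l₂ t₂) (T_mono H l₃ t₃) _ _ _
    (E_mono H l₁ h₁ t₁ e₁) (E_mono H l₂ h₂ t₂ e₂) (E_mono H l₃ h₃ t₃ e₃)

/-- the Euler characteristic as a homomorphism `K₀(P₁) ⟶ K₀(P₀)`. -/
noncomputable def chiHom : KZero.K0sub P₁ →+ KZero.K0sub P₀ :=
  QuotientAddGroup.lift _ (FreeAbelianGroup.lift (chi H hfin)) (by
    rw [KZero.relSub, AddSubgroup.closure_le]
    rintro x ⟨S, h₁, h₂, h₃, hS, rfl⟩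
    change FreeAbelianGroup.lift (chi H hfin) _ = 0
    rw [map_sub, map_sub, FreeAbelianGroup.lift_apply_of, FreeAbelianGroup.lift_apply_of,
      FreeAbelianGroup.lift_apply_of, chi_add H hfin S hS h₁ h₂ h₃]
    abel)

lemma chiHom_cl (A : C) (hA : P₁ A) : chiHom H hfin (cl P₁ A hA) = chi H hfin ⟨A, hA⟩ := by
  change QuotientAddGroup.lift _ _ _ (QuotientAddGroup.mk _) = _
  rw [QuotientAddGroup.lift_mk, FreeAbelianGroup.lift_apply_of]

theorem bijective_mapSub : Function.Bijective (SGA6.mapSub (𝟭 C) P₀ P₁ H.hle) := by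
  have hleft : ∀ z : KZero.K0sub P₀, chiHom H hfin (SGA6.mapSub (𝟭 C) P₀ P₁ H.hle z) = z := by
    intro z
    have hcomp : (chiHom H hfin).comp (SGA6.mapSub (𝟭 C) P₀ P₁ H.hle) =
        AddMonoidHom.id _ := by
      apply QuotientAddGroup.addMonoidHom_ext
      apply FreeAbelianGroup.lift_ext
      rintro ⟨A, hA⟩
      change chiHom H hfin (SGA6.mapSub (𝟭 C) P₀ P₁ H.hle (cl P₀ A hA)) = cl P₀ A hA
      rw [map_E H 0 A _ (H.hle _ hA) ⟨hA, rfl⟩, chiHom_cl]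
      exact chi_eq H hfin (H.hle _ hA) (show T P₀ 0 A from hA) ⟨hA, rfl⟩
    exact DFunLike.congr_fun hcomp z
  have hright : ∀ z : KZero.K0sub P₁, SGA6.mapSub (𝟭 C) P₀ P₁ H.hle (chiHom H hfin z) = z := by
    intro z
    have hcomp : (SGA6.mapSub (𝟭 C) P₀ P₁ H.hle).comp (chiHom H hfin) =
        AddMonoidHom.id _ := by
      apply QuotientAddGroup.addMonoidHom_ext
      apply FreeAbelianGroup.lift_ext
      rintro ⟨A, hA⟩
      change SGA6.mapSub (𝟭 C) P₀ P₁ H.hle (chiHom H hfin (cl P₁ A hA)) = cl P₁ A hA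
      rw [chiHom_cl]
      obtain ⟨n, _, hE⟩ := chi_spec H hfin A hA
      exact map_E H n A _ hA hE
    exact DFunLike.congr_fun hcomp z
  exact ⟨Function.LeftInverse.injective hleft, Function.RightInverse.surjective hright⟩

end Final

end Groth.Agent.Lib.Helper2.K0Res
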